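import Mathlib.AlgebraicGeometry.IdealSheaf.Functorial

/-! The inverse image ideal sheaf on affine opens. -/

namespace Groth.Agent.IdealComap

open AlgebraicGeometry CategoryTheory

universe u

variable {X Y : Scheme.{u}}

lemma ideal_comap_top [IsAffine X] [IsAffine Y] (I : Y.IdealSheafData) (f : X ⟶ Y) :
    (I.comap f).ideal ⟨⊤, isAffineOpen_top X⟩ = (I.ideal ⟨⊤, isAffineOpen_top Y⟩).map f.appTop.hom := by
  have key : ∀ K : X.IdealSheafData, I.comap f ≤ K ↔
      (I.ideal ⟨⊤, isAffineOpen_top Y⟩).map f.appTop.hom ≤ K.ideal ⟨⊤, isAffineOpen_top X⟩ := by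
    intro K
    rw [← Scheme.IdealSheafData.le_map_iff_comap_le, Ideal.map_le_iff_le_comap]
    have h := Scheme.IdealSheafData.ideal_map K f ⟨⊤, isAffineOpen_top Y⟩ (isAffineOpen_top X)
    exact ⟨fun hle ↦ (hle _).trans h.le, fun hle ↦ Scheme.IdealSheafData.le_of_isAffine (hle.trans h.ge)⟩
  refine le_antisymm ?_ ((key _).mp le_rfl)
  obtain ⟨K, hK⟩ : ∃ K : X.IdealSheafData, K.ideal ⟨⊤, isAffineOpen_top X⟩ =
      (I.ideal ⟨⊤, isAffineOpen_top Y⟩).map f.appTop.hom :=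
    ⟨Scheme.IdealSheafData.ofIdealTop _, (Scheme.IdealSheafData.ofIdealTop_ideal _ _).trans (by
      rw [show homOfLE (le_top : (⊤ : X.Opens) ≤ ⊤) = 𝟙 _ from rfl, op_id, X.presheaf.map_id]
      exact Ideal.map_id _)⟩
  exact hK ▸ (key K).mpr hK.ge _

theorem ideal_comap (I : Y.IdealSheafData) (f : X ⟶ Y) (U : X.affineOpens) (V : Y.affineOpens)
    (e : U.1 ≤ f ⁻¹ᵁ V.1) :
    (I.comap f).ideal U = (I.ideal V).map (f.appLE V.1 U.1 e).hom := by
  have : IsAffine (U.1 : Scheme.{u}) := U.2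
  have : IsAffine (V.1 : Scheme.{u}) := V.2
  let U' : X.affineOpens := ⟨U.1.ι ''ᵁ ⊤, (isAffineOpen_top _).image_of_isOpenImmersion U.1.ι⟩
  let V' : Y.affineOpens := ⟨V.1.ι ''ᵁ ⊤, (isAffineOpen_top _).image_of_isOpenImmersion V.1.ι⟩
  have hU : U' = U := Subtype.ext U.1.ι_image_top
  have hV : V' = V := Subtype.ext V.1.ι_image_top
  have e' : U'.1 ≤ f ⁻¹ᵁ V'.1 := by rw [hU, hV]; exact e
  have main : (I.comap f).ideal U' = (I.ideal V').map (f.appLE V'.1 U'.1 e').hom := by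
    let g : (U.1 : Scheme.{u}) ⟶ (V.1 : Scheme.{u}) := f.resLE V.1 U.1 e
    have hg : g ≫ V.1.ι = U.1.ι ≫ f := Scheme.Hom.resLE_comp_ι f e
    have h1 := Scheme.IdealSheafData.ideal_comap_of_isOpenImmersion (I.comap f) U.1.ι ⟨⊤, isAffineOpen_top _⟩
    rw [← Scheme.IdealSheafData.comap_comp, ← hg, Scheme.IdealSheafData.comap_comp, ideal_comap_top,
      Scheme.IdealSheafData.ideal_comap_of_isOpenImmersion] at h1
    have happ : g.appTop = f.appLE V'.1 U'.1 e' := by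
      refine (Scheme.Hom.resLE_app_top (f := f) (e := e)).trans ?_
      simp only [Scheme.Opens.topIso, Functor.mapIso_hom, Functor.mapIso_inv]
      refine (congrArg (fun φ ↦ _ ≫ φ) (Scheme.Hom.appLE_map f _ _)).trans ?_
      exact Scheme.Hom.map_appLE f _ _
    simp only [Scheme.Opens.ι_appIso] at h1
    refine h1.symm.trans ?_
    rw [← happ]
    rfl
  clear_value U' V'
  subst hU hV
  exact main

end Groth.Agent.IdealComap
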